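import Mathlib
import Cfsg.Agent.KFacts.MulSpor.NoDbl
import Cfsg.Agent.H51.Crit
import Cfsg.Agent.H49.Form
set_option linter.all false

/-!
# The 11-part of the Schur multiplier of `J4` (helper49)

`x`, `y` generate an extraspecial group of order `11^3`, the involution `t` inverts `x` and `y`.  The words (in
`x, y, y⁻¹, t`) were found by a search for coincidences in the orbit of the fixed space of an element of order 11 (class
11A) of the 112-dimensional module over `GF(2)`; the relations are checked in this module.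
-/

set_option autoImplicit false
set_option maxRecDepth 20000

namespace Cfsg.Agent.H49.JFourEleven

open Cfsg.Agent.Lib.F2MatGroup Cfsg.Agent.J4.Rep112 Cfsg.Agent.J4.Final Cfsg.Agent.H51.Mult
open Cfsg.Agent.H49.Form
open scoped commutatorElement

/-- the straight line program -/
def ws : List (List ℕ) := [
  [1, 0, 1, 0, 3, 1, 3], [4, 3, 4, 1, 3, 1, 3], [1, 1], [0, 0], [0, 0], [0, 0], [0, 0], [0, 6], [8, 9, 11, 9, 8,
  10, 11, 10, 11, 10, 11, 10, 8, 11, 9, 11, 9, 8, 9, 8, 10, 8, 10, 11, 10, 11, 8, 9, 11, 9, 11, 9, 11, 9, 8, 10,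
  11, 10, 8], [9, 10, 12, 10, 9, 11, 12, 11, 12, 11, 12, 11, 9, 12, 10, 12, 10, 9, 10, 9, 11, 9, 11, 12, 11, 12,
  9, 10, 12, 10, 12, 10, 12, 10, 9, 11, 12, 11, 9], [2, 0, 2, 1], [9, 0, 10], [4, 1, 4], [5, 1, 5]]

/-- the relations -/
def es : List (List ℕ × List ℕ) := [([3, 3, 3, 3, 3, 3, 3, 3, 3, 3, 3], []), ([2, 2, 2, 2, 2, 2, 2, 2, 2, 2, 2], []),
  ([6, 6], []), ([1, 3], []), ([0, 2], []), ([3, 2, 1, 0, 3], [3, 3, 2, 1, 0]), ([3, 2, 1, 0, 2], [2, 3, 2, 1, 0]),
  ([6, 3], [1, 6]), ([6, 2], [0, 6])]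

/-- the inequality -/
def ns : List (List ℕ × List ℕ) := [([3, 2], [2, 3])]

theorem chk : check 112 codes ws es ns = true := by decide +kernel

theorem facts : (∀ p ∈ es, evG (runG ws gens) p.1 = evG (runG ws gens) p.2) ∧
    (∀ p ∈ ns, evG (runG ws gens) p.1 ≠ evG (runG ws gens) p.2) := by
  have h := check_sound (by norm_num) codes_gens chk
  rw [runG_map] at h
  simp only [evG_map] at h
  exact ⟨fun p hp => rho_injective (h.1 p hp), fun p hp h0 => h.2 p hp (congrArg rho h0)⟩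

theorem card_J4' : ¬ 11 ^ 4 ∣ Nat.card Cfsg.Spor.J4 := by rw [card_J4]; norm_num

theorem finite_J4 : Finite Cfsg.Spor.J4 := Nat.finite_of_card_ne_zero (by rw [card_J4]; norm_num)

theorem noCov : NoCov 11 Cfsg.Spor.J4 := by
  have hfin := finite_J4
  obtain ⟨he, hn⟩ := facts
  generalize runG ws gens = L at he hn
  have h1 := he _ (show ([3, 3, 3, 3, 3, 3, 3, 3, 3, 3, 3], []) ∈ es by simp [es])
  have h2 := he _ (show ([2, 2, 2, 2, 2, 2, 2, 2, 2, 2, 2], []) ∈ es by simp [es])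
  have h4 := he _ (show ([1, 3], []) ∈ es by simp [es])
  have h5 := he _ (show ([0, 2], []) ∈ es by simp [es])
  have h6 := he _ (show ([3, 2, 1, 0, 3], [3, 3, 2, 1, 0]) ∈ es by simp [es])
  have h7 := he _ (show ([3, 2, 1, 0, 2], [2, 3, 2, 1, 0]) ∈ es by simp [es])
  have h8 := he _ (show ([6, 3], [1, 6]) ∈ es by simp [es])
  have h9 := he _ (show ([6, 2], [0, 6]) ∈ es by simp [es])
  have h10 := hn _ (show ([3, 2], [2, 3]) ∈ ns by simp [ns])
  simp only [evG_cons, evG_nil, mul_one] at h1 h2 h4 h5 h6 h7 h8 h9 h10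
  generalize getG L 3 = x at *
  generalize getG L 2 = y at *
  generalize getG L 6 = t at *
  have hx : getG L 1 = x⁻¹ := eq_inv_of_mul_eq_one_left h4
  have hy : getG L 0 = y⁻¹ := eq_inv_of_mul_eq_one_left h5
  rw [hx] at h6 h7 h8
  rw [hy] at h6 h7 h9
  have g1 : x ^ 11 = 1 := by rw [← h1]; simp only [pow_succ', pow_zero, mul_one]
  have g2 : y ^ 11 = 1 := by rw [← h2]; simp only [pow_succ', pow_zero, mul_one]
  have g3 : ⁅x, y⁆ * x = x * ⁅x, y⁆ := by
    rw [commutatorElement_def]; simpa only [mul_assoc] using h6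
  have g4 : ⁅x, y⁆ * y = y * ⁅x, y⁆ := by
    rw [commutatorElement_def]; simpa only [mul_assoc] using h7
  have g5 : ⁅x, y⁆ ≠ 1 := by
    rw [Ne, commutatorElement_eq_one_iff_mul_comm]; exact h10
  refine Cfsg.Agent.H51.Crit.noCov_extra (p := 11) (by norm_num) (by norm_num) (x := x) (y := y) (t := t) g3 g4 g5 g1
    ?_ (i := 0) (j := 0) ?_ ?_
  · exact not_dvd_index (by norm_num) (pow_dvd_extra (by norm_num) g1 g2 g3 g4 g5) card_J4'
  · rw [h8, zpow_zero, mul_one, mul_inv_cancel_right]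
  · rw [h9, zpow_zero, mul_one, mul_inv_cancel_right]

end Cfsg.Agent.H49.JFourEleven
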