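import Mathlib
import Cfsg.Agent.J4.Pres
import Cfsg.Agent.S0365
import Cfsg.Agent.S2038
import Cfsg.Agent.H49.JFourEleven
set_option linter.all false

/-!
# The 3-part of the Schur multiplier of `J4` (helper49)

`J4` contains `M24` with index prime to 3.
-/

set_option autoImplicit false
set_option maxRecDepth 20000

namespace Cfsg.Agent.H49.JFourThree

open Cfsg Cfsg.Agent.J4.Rep112 Cfsg.Agent.J4.Final Cfsg.Agent.J4.Pres Cfsg.Agent.H51.Mult
open Cfsg.Agent.Lib.F2MatGroup

theorem x_ne : (Cfsg.Agent.J4.Rep112.x : Spor.J4) ≠ 1 := by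
  intro h
  have h1 := congrArg rho h
  rw [rho_x, map_one] at h1
  refine Cfsg.Agent.J4.Simple.ne_one_of_codes cx ?_ ?_ h1
  · decide +kernel
  · decide +kernel

theorem phi_injective : Function.Injective phi := by
  have hs : IsSimpleGroup M24 := Cfsg.Agent.S0365.result
  rw [← MonoidHom.ker_eq_bot_iff]
  rcases (inferInstance : phi.ker.Normal).eq_bot_or_eq_top with h | h
  · exact h
  · exfalso
    apply x_ne
    rw [← phi_X]
    have h1 : Cfsg.Agent.J4.M24Hom.XM ∈ phi.ker := by rw [h]; trivial
    exact h1

theorem card_range : Nat.card phi.range = 244823040 := by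
  rw [Nat.card_congr (MonoidHom.ofInjective phi_injective).symm.toEquiv]
  exact Cfsg.Agent.S2038.card_M24

theorem noCov : NoCov 3 Cfsg.Spor.J4 := by
  have hfin := Cfsg.Agent.H49.JFourEleven.finite_J4
  have hm : commutator ↥M24 = ⊤ := by
    have hs : IsSimpleGroup M24 := Cfsg.Agent.S0365.result
    exact Cfsg.Agent.H48.Crit.perfect_of_simple (by rw [Cfsg.Agent.S2038.card_M24]; norm_num)
  refine NoCov.of_subgroup Nat.prime_three (H := phi.range) ?_ ?_
    (Cfsg.Agent.S2038.noCov_three.congr (MonoidHom.ofInjective phi_injective))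
  · intro hd
    have h1 := phi.range.card_mul_index
    rw [card_range, card_J4] at h1
    obtain ⟨k, hk⟩ := hd
    rw [hk] at h1
    omega
  · have e : M24 ≃* phi.range := MonoidHom.ofInjective phi_injective
    have hs : Function.Surjective e.toMonoidHom := e.surjective
    have h1 : (commutator ↥M24).map e.toMonoidHom = commutator phi.range := by
      rw [_root_.commutator_def, Subgroup.map_commutator, Subgroup.map_top_of_surjective _ hs, _root_.commutator_def]
    rw [← h1, hm, Subgroup.map_top_of_surjective _ hs]

end Cfsg.Agent.H49.JFourThree
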