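import Mathlib
import Cfsg.Agent.LThreeCo1.Ev
import Cfsg.Prelude.Def_Spor_Conway
import Cfsg.Agent.H49.Form
set_option linter.all false

/-!
# Explicit elements of the stabiliser of a lattice vector in `Co0`, and `NoCov` for it (helper49)

`M : ℕ → List (List ℤ)` are matrices of elements `el i` of `Co0`; the letters `i + 32` are the inverses.
`St v` is the stabiliser of `v`; words in the letters fixing `v` are compared on the vector `beta`.
`noCov_three` : the prime 3, for a subgroup `3^n : 3^2`; `noCov_extra` : `p^(1+2)`.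
-/

set_option autoImplicit false
set_option linter.style.haveILetI false
set_option linter.unusedVariables false
set_option maxRecDepth 20000

namespace Cfsg.Agent.H49.Stab

open Cfsg Cfsg.Agent.SporadicA Cfsg.Agent.SporadicStructure.Co0Matrix Cfsg.Agent.CoOneType.CoEval
open Cfsg.Agent.CoOneType.CoFast Cfsg.Agent.LThreeCo1.Ev
open Subgroup Cfsg.Agent.H51.Mult Cfsg.Agent.H51.Crit Cfsg.Agent.H49.Form
open scoped commutatorElement

/-- matrices of the letters and their inverses -/
def xM (M : ℕ → List (List ℤ)) (i : ℕ) : List (List ℤ) := if i < 32 then M i else tr (M (i - 32))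

variable {M : ℕ → List (List ℤ)} (F : ∀ i, Ok (M i) (tr (M i)))

/-- the elements -/
noncomputable def el (i : ℕ) : Co0 := mk (F i)

/-- the elements and their inverses -/
noncomputable def xe (i : ℕ) : Co0 := if i < 32 then el F i else (el F (i - 32))⁻¹

theorem xrep (i : ℕ) : Rep (xe F i) (xM M i) := by
  unfold xe xM
  split_ifs
  · exact rep_mk (F i)
  · exact rep_inv (F (i - 32))

/-- the stabiliser of a vector -/
abbrev St (v : leechLattice) : Subgroup (Equiv.Perm leechLattice) :=
  Co0 ⊓ MulAction.stabilizer (Equiv.Perm leechLattice) v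

variable {v : leechLattice} (hfix : ∀ i, (el F i).1 v = v)

/-- the elements of the stabiliser -/
noncomputable def se (i : ℕ) : St v := ⟨(el F i).1, (el F i).2, hfix i⟩

/-- the elements of the stabiliser and their inverses -/
noncomputable def xs (i : ℕ) : St v := if i < 32 then se F hfix i else (se F hfix (i - 32))⁻¹

/-- the inclusion -/
noncomputable def inc (v : leechLattice) : St v →* Co0 := Subgroup.inclusion inf_le_left

theorem inc_injective (v : leechLattice) : Function.Injective (inc v) := Subgroup.inclusion_injective _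

theorem inc_se (i : ℕ) : inc v (se F hfix i) = el F i := rfl

theorem inc_xs (i : ℕ) : inc v (xs F hfix i) = xe F i := by
  unfold xs xe
  split_ifs
  · rfl
  · rw [map_inv, inc_se]

theorem inc_word (w : List ℕ) : inc v (w.map (xs F hfix)).prod = (w.map (xe F)).prod := by
  rw [map_list_prod, List.map_map]
  congr 1
  exact List.map_congr_left fun i _ => inc_xs F hfix i

theorem word_eq {w w' : List ℕ} (h : eqB (xM M) w w' = true) :
    (w.map (xs F hfix)).prod = (w'.map (xs F hfix)).prod := by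
  apply inc_injective v
  rw [inc_word, inc_word]
  exact eq_of_eqB (xrep F) h

theorem word_ne {w w' : List ℕ} (h : neB' (xM M) w w' = true) :
    (w.map (xs F hfix)).prod ≠ (w'.map (xs F hfix)).prod := by
  intro h0
  apply ne_of_neB' (xrep F) h
  rw [← inc_word F hfix, ← inc_word F hfix, h0]

theorem xs_inv {i : ℕ} (hi : i < 32) : xs F hfix (i + 32) = (xs F hfix i)⁻¹ := by
  unfold xs
  rw [if_neg (by omega), if_pos hi, Nat.add_sub_cancel]

/-- the value of a word on a vector -/
theorem smul_word {w : List ℕ} {l : List ℤ} (hl : l.length = 24) {x : leechLattice}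
    (hx : (x : GolayPt → ℤ) = vec l) :
    (((w.map (xs F hfix)).prod • x : leechLattice) : GolayPt → ℤ) = vec (foldZ (xM M) w l) := by
  have h1 := (fold_spec (xrep F) w hl.le hx).2
  rw [foldZ_eq, ← h1, ← inc_word F hfix]
  rfl

/-- `f ^ i a f ^ (-i)` as a word, `1 = a`, `2 = f` -/
def wv (i : ℕ) : List ℕ := List.replicate i 2 ++ (1 :: List.replicate i 34)

theorem wv_prod (i : ℕ) : ((wv i).map (xs F hfix)).prod = vv (xs F hfix 2) (xs F hfix 1) i := by
  unfold wv vv
  rw [List.map_append, List.prod_append, List.map_cons, List.prod_cons, List.map_replicate, List.map_replicate,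
    List.prod_replicate, List.prod_replicate, xs_inv F hfix (i := 2) (by norm_num), inv_pow, mul_assoc]

theorem flat_prod (w : List ℕ) : ((w.flatMap wv).map (xs F hfix)).prod =
    (w.map (vv (xs F hfix 2) (xs F hfix 1))).prod := by
  induction w with
  | nil => rfl
  | cons k w ih =>
    rw [List.flatMap_cons, List.map_append, List.prod_append, ih, wv_prod, List.map_cons, List.prod_cons]

/-- the checks for the prime 3 -/
structure Chk (M : ℕ → List (List ℤ)) (n : ℕ) (w : List ℕ) (bw bw' : ℕ → List ℕ) (ka : ℕ) (xL : List ℤ) : Prop where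
  hn : 0 < n
  hka : ka < n
  hw : ∀ k ∈ w, k < n
  hbw : ∀ k < n, ∀ j ∈ bw k, j < n
  hbw' : ∀ k < n, ∀ j ∈ bw' k, j < n
  c1 : eqB (xM M) [1, 1, 1] [] = true
  c2 : ∀ k < n, eqB (xM M) (1 :: wv k) (wv k ++ [1]) = true
  c3 : eqB (xM M) (wv n) (w.flatMap wv) = true
  c4 : eqB (xM M) [3, 3] [] = true
  c5 : eqB (xM M) [3, 1] [33, 3] = true
  c6 : eqB (xM M) [3, 2] [2, 3] = true
  c7 : eqB (xM M) [3, 4] [4, 3] = true
  c8 : eqB (xM M) [3, 5] [5, 3] = true
  c9 : eqB (xM M) [4, 4, 4] [] = true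
  c10 : ∀ k < n, eqB (xM M) (4 :: wv k) ((bw k).flatMap wv ++ [4]) = true
  c11 : ∀ k < n, eqB (xM M) ([5, 4, 37] ++ wv k) ((bw' k).flatMap wv ++ [5, 4, 37]) = true
  c12 : eqB (xM M) [4, 5, 4, 37] [5, 4, 37, 4] = true
  c13 : eqB (xM M) [5, 5, 4, 37] [4, 5] = true
  c14 : neB' (xM M) (wv ka ++ [4]) (4 :: wv ka) = true
  c15 : ∀ j < 3, neB' (xM M) (wv ka ++ ([5, 4, 37] ++ List.replicate j 4))
    (([5, 4, 37] ++ List.replicate j 4) ++ wv ka) = true
  xlen : xL.length = 24
  xmem : leechB xL = true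
  c16 : ∀ i, i + 1 < n → foldZ (xM M) (wv i) xL = xL
  c17 : foldZ (xM M) (wv (n - 1)) xL ≠ xL

/-- `b (v k) b⁻¹ ∈ ⟨v i⟩` from a word -/
theorem mem_of_word {G : Type*} [Group G] {f a b : G} {n k : ℕ} {w : List ℕ} (hw : ∀ j ∈ w, j < n)
    (h : b * vv f a k = (w.map (vv f a)).prod * b) : b * vv f a k * b⁻¹ ∈ closure (vv f a '' {i | i < n}) := by
  rw [h, mul_inv_cancel_right]
  apply list_prod_mem
  intro x hx
  obtain ⟨j, hj, rfl⟩ := List.mem_map.1 hx
  exact subset_closure ⟨j, hw j hj, rfl⟩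

/-- **The prime 3, a Sylow subgroup `3^n : 3^2`**, abstract form. -/
theorem three_abs {G : Type*} [Group G] [Finite G] {Ω : Type*} [MulAction G Ω] {a f t b s : G} {n : ℕ} {w : List ℕ}
    {ka : ℕ} (hka : ka < n) (hw : ∀ k ∈ w, k < n)
    (ha3 : a ^ 3 = 1) (hk : ∀ k < n, a * vv f a k = vv f a k * a) (hn : vv f a n = (w.map (vv f a)).prod)
    (htt : t * t = 1) (hta : t * a * t⁻¹ = a⁻¹) (htf : t * f = f * t) (htb : t * b = b * t) (hts : t * s = s * t)
    (hb3 : b ^ 3 = 1) (hbE : ∀ k < n, b * vv f a k * b⁻¹ ∈ closure (vv f a '' {i | i < n}))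
    (hbE' : ∀ k < n, (s * b * s⁻¹) * vv f a k * (s * b * s⁻¹)⁻¹ ∈ closure (vv f a '' {i | i < n}))
    (hbb : b * (s * b * s⁻¹) = (s * b * s⁻¹) * b) (hsb : s * (s * b * s⁻¹) * s⁻¹ = b)
    (h1 : vv f a ka * b ≠ b * vv f a ka)
    (h2 : ∀ j < 3, vv f a ka * ((s * b * s⁻¹) * b ^ j) ≠ (s * b * s⁻¹) * b ^ j * vv f a ka)
    (x : Ω) (hx : ∀ i, i + 1 < n → vv f a i • x = x) (hx' : vv f a (n - 1) • x ≠ x)
    (hD : ∀ D : ℕ → ZMod 3, D 0 = 0 → (∀ i, i + 1 < n →
      (w.map fun k => if i + 1 ≤ k then D (k - (i + 1)) else - D (i + 1 - k)).sum = D (n - 1 - i)) →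
      ∀ k < n, D k = 0) (hcard : ¬ 3 ^ (n + 3) ∣ Nat.card G) : NoCov 3 G := by
  have hcm := vv_comm hk
  generalize hb' : s * b * s⁻¹ = b' at *
  have hb'3 : b' ^ 3 = 1 := by rw [← hb', conj_pow, hb3, mul_one, mul_inv_cancel]
  have htb' : t * b' = b' * t := by
    rw [← hb']
    have : Commute t (s * b * s⁻¹) := ((show Commute t s from hts).mul_right htb).mul_right
      (show Commute t s from hts).inv_right
    exact this
  set E := closure (vv f a '' {i | i < n}) with hE
  have hEc : ∀ x ∈ E, vv f a ka * x = x * vv f a ka := by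
    intro x hx
    have h2 : E ≤ centralizer {vv f a ka} := by
      rw [hE, closure_le]
      rintro _ ⟨i, hi, rfl⟩
      rw [SetLike.mem_coe, mem_centralizer_singleton_iff]
      exact hcm _ hi _ hka
    exact (mem_centralizer_singleton_iff.1 (h2 hx)).symm
  have hEn : ∀ c : G, (∀ k < n, c * vv f a k * c⁻¹ ∈ E) → ∀ x ∈ E, c * x * c⁻¹ ∈ E := by
    intro c hc x hx
    have h2 : E ≤ E.comap (MulAut.conj c).toMonoidHom := by
      conv_lhs => rw [hE]
      rw [closure_le]
      rintro _ ⟨i, hi, rfl⟩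
      exact hc i hi
    exact h2 hx
  have hEcard : 3 ^ n ∣ Nat.card E := pow_dvd_cyc Nat.prime_three ha3 hk x hx hx'
  have hPcard : 3 ^ (n + 2) ∣ Nat.card ↥(E ⊔ zpowers b ⊔ zpowers b') :=
    pow_dvd_two Nat.prime_three hEcard hEc (hEn b hbE) (hEn b' hbE') hb3 hb'3 hbb h1 h2
  intro L _ _ π h hc
  obtain ⟨c, hform, hlift⟩ := exists_form h Nat.prime_three hc
  have hzero := cyc hform hk w hw hn hD
  -- the lifts
  obtain ⟨β, hβ⟩ := h.surj b
  obtain ⟨β', hβ'⟩ := h.surj b'
  obtain ⟨γ, hγ⟩ := h.surj s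
  have hle := Cfsg.Agent.H49.Red.ker_le h Nat.prime_three hc (t := t) (m := 2) (by rw [pow_two]; exact htt)
    (by decide) (l := -1) (by decide) (fun i : Fin n => vv f a i) (fun j : Bool => if j then b else b')
    (by
      intro i
      have h1 : t * f ^ (i : ℕ) = f ^ (i : ℕ) * t := (show Commute t f from htf).pow_right _
      have h2 : (f ^ (i : ℕ))⁻¹ * t⁻¹ = t⁻¹ * (f ^ (i : ℕ))⁻¹ := by rw [← mul_inv_rev, h1, mul_inv_rev]
      show t * (f ^ (i : ℕ) * a * (f ^ (i : ℕ))⁻¹) * t⁻¹ = (f ^ (i : ℕ) * a * (f ^ (i : ℕ))⁻¹) ^ (-1 : ℤ)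
      calc t * (f ^ (i : ℕ) * a * (f ^ (i : ℕ))⁻¹) * t⁻¹
          = (t * f ^ (i : ℕ)) * a * ((f ^ (i : ℕ))⁻¹ * t⁻¹) := by group
        _ = (f ^ (i : ℕ) * t) * a * (t⁻¹ * (f ^ (i : ℕ))⁻¹) := by rw [h1, h2]
        _ = f ^ (i : ℕ) * (t * a * t⁻¹) * (f ^ (i : ℕ))⁻¹ := by group
        _ = _ := by rw [hta]; group)
    (by
      intro i
      show (f ^ (i : ℕ) * a * (f ^ (i : ℕ))⁻¹) ^ 3 = 1
      rw [conj_pow, ha3, mul_one, mul_inv_cancel])
    (by
      rintro (_ | _)
      · exact htb'
      · exact htb)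
    (by
      have hr : Set.range (fun i : Fin n => vv f a i) = vv f a '' {i | i < n} := by
        ext x
        constructor
        · rintro ⟨i, rfl⟩; exact ⟨i, i.2, rfl⟩
        · rintro ⟨i, hi, rfl⟩; exact ⟨⟨i, hi⟩, rfl⟩
      rw [hr]
      rintro (_ | _) i
      · exact hbE' i i.2
      · exact hbE i i.2)
    (by
      intro x y i j hx hy
      apply hlift
      · rw [hx, hy]; exact hcm i i.2 j j.2
      · rw [hx, hy]; exact hzero i i.2 j j.2)
    (by
      apply not_dvd_index Nat.prime_three (k := n + 2) _ hcard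
      refine hPcard.trans (Subgroup.card_dvd_of_le ?_)
      rw [sup_le_iff, sup_le_iff, zpowers_le, zpowers_le]
      refine ⟨⟨?_, ?_⟩, ?_⟩
      · rw [hE, closure_le]
        rintro _ ⟨i, hi, rfl⟩
        exact subset_closure (Or.inl ⟨⟨i, hi⟩, rfl⟩)
      · exact subset_closure (Or.inr ⟨true, rfl⟩)
      · exact subset_closure (Or.inr ⟨false, rfl⟩))
    (fun j : Bool => if j then β else β')
    (by
      rintro (_ | _)
      · exact hβ'
      · exact hβ)
  have hrange : Set.range (fun j : Bool => if j then β else β') = {β, β'} := by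
    ext x
    constructor
    · rintro ⟨(_ | _), rfl⟩
      · exact Or.inr rfl
      · exact Or.inl rfl
    · rintro (rfl | rfl)
      · exact ⟨true, rfl⟩
      · exact ⟨false, rfl⟩
  rw [hrange] at hle
  refine Cfsg.Agent.H49.Red.sq_false h Nat.prime_three hc (α := β) (β := β') (γ := γ) (by rw [hβ, hβ']; exact hbb)
    (a := 0) (b := 1) (c := 1) (d := 0) ?_ ?_ (by decide) hle
  · rw [hβ, hβ', hγ, zpow_zero, zpow_one, one_mul, hb']
  · rw [hβ, hβ', hγ, zpow_zero, zpow_one, mul_one]
    exact hsb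

/-- the words give the hypotheses of `three_abs` -/
theorem three_words {G : Type*} [Group G] [Finite G] {Ω : Type*} [MulAction G Ω] (e : ℕ → G)
    (W : ∀ {w w' : List ℕ}, eqB (xM M) w w' = true → (w.map e).prod = (w'.map e).prod)
    (N : ∀ {w w' : List ℕ}, neB' (xM M) w w' = true → (w.map e).prod ≠ (w'.map e).prod)
    (e33 : e 33 = (e 1)⁻¹) (e37 : e 37 = (e 5)⁻¹) (hwv : ∀ i, ((wv i).map e).prod = vv (e 2) (e 1) i)
    {n : ℕ} {w : List ℕ} {bw bw' : ℕ → List ℕ} {ka : ℕ} {xL : List ℤ} (C : Chk M n w bw bw' ka xL)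
    (x : Ω) (hx : ∀ i, i + 1 < n → vv (e 2) (e 1) i • x = x) (hx' : vv (e 2) (e 1) (n - 1) • x ≠ x)
    (hD : ∀ D : ℕ → ZMod 3, D 0 = 0 → (∀ i, i + 1 < n →
      (w.map fun k => if i + 1 ≤ k then D (k - (i + 1)) else - D (i + 1 - k)).sum = D (n - 1 - i)) →
      ∀ k < n, D k = 0) (hcard : ¬ 3 ^ (n + 3) ∣ Nat.card G) : NoCov 3 G := by
  have hfl : ∀ w : List ℕ, ((w.flatMap wv).map e).prod = (w.map (vv (e 2) (e 1))).prod := by
    intro w
    induction w with
    | nil => rfl
    | cons k w ih =>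
      rw [List.flatMap_cons, List.map_append, List.prod_append, ih, hwv, List.map_cons, List.prod_cons]
  have hb'w : (([5, 4, 37] : List ℕ).map e).prod = e 5 * e 4 * (e 5)⁻¹ := by
    simp only [List.map_cons, List.map_nil, List.prod_cons, List.prod_nil, mul_one, e37, mul_assoc]
  have hone : ∀ i, (([i] : List ℕ).map e).prod = e i := fun i => by simp
  have hcons : ∀ i (l : List ℕ), ((i :: l).map e).prod = e i * (l.map e).prod := fun i l => by
    rw [List.map_cons, List.prod_cons]
  have happ : ∀ l l' : List ℕ, ((l ++ l').map e).prod = (l.map e).prod * (l'.map e).prod := fun l l' => by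
    rw [List.map_append, List.prod_append]
  refine three_abs (a := e 1) (f := e 2) (t := e 3) (b := e 4) (s := e 5) C.hka C.hw ?_ ?_ ?_ ?_ ?_ ?_ ?_ ?_ ?_ ?_ ?_ ?_
    ?_ ?_ ?_ x hx hx' hD hcard
  · have := W C.c1
    simp only [List.map_cons, List.map_nil, List.prod_cons, List.prod_nil, mul_one] at this
    rw [pow_succ, pow_two, mul_assoc]; exact this
  · intro k hk
    have := W (C.c2 k hk)
    rw [hcons, happ, hwv, hone] at this
    exact this
  · have := W C.c3
    rwa [hwv, hfl] at this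
  · have := W C.c4
    simp only [List.map_cons, List.map_nil, List.prod_cons, List.prod_nil, mul_one] at this
    exact this
  · have := W C.c5
    simp only [List.map_cons, List.map_nil, List.prod_cons, List.prod_nil, mul_one, e33] at this
    rw [this, mul_assoc, mul_inv_cancel, mul_one]
  · have := W C.c6
    simp only [List.map_cons, List.map_nil, List.prod_cons, List.prod_nil, mul_one] at this
    exact this
  · have := W C.c7
    simp only [List.map_cons, List.map_nil, List.prod_cons, List.prod_nil, mul_one] at this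
    exact this
  · have := W C.c8
    simp only [List.map_cons, List.map_nil, List.prod_cons, List.prod_nil, mul_one] at this
    exact this
  · have := W C.c9
    simp only [List.map_cons, List.map_nil, List.prod_cons, List.prod_nil, mul_one] at this
    rw [pow_succ, pow_two, mul_assoc]; exact this
  · intro k hk
    have := W (C.c10 k hk)
    rw [hcons, happ, hwv, hfl, hone] at this
    exact mem_of_word (C.hbw k hk) this
  · intro k hk
    have := W (C.c11 k hk)
    rw [happ, happ, hwv, hfl, hb'w] at this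
    exact mem_of_word (C.hbw' k hk) this
  · have := W C.c12
    rw [show ([4, 5, 4, 37] : List ℕ) = 4 :: [5, 4, 37] from rfl, show ([5, 4, 37, 4] : List ℕ) = [5, 4, 37] ++ [4] from rfl,
      hcons, happ, hb'w, hone] at this
    exact this
  · have := W C.c13
    have e1 : (([5, 5, 4, 37] : List ℕ).map e).prod = e 5 * (e 5 * e 4 * (e 5)⁻¹) := by
      rw [show ([5, 5, 4, 37] : List ℕ) = 5 :: [5, 4, 37] from rfl, hcons, hb'w]
    have e2 : (([4, 5] : List ℕ).map e).prod = e 4 * e 5 := by
      simp only [List.map_cons, List.map_nil, List.prod_cons, List.prod_nil, mul_one]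
    rw [e1, e2] at this
    rw [this, mul_inv_cancel_right]
  · have := N C.c14
    rwa [happ, hwv, hone, hcons, hwv] at this
  · intro j hj
    have := N (C.c15 j hj)
    rwa [happ, happ, happ, happ, hwv, hb'w, List.map_replicate, List.prod_replicate] at this

include F hfix in
/-- the subgroup `3^n : 3^2` -/
theorem noCov_three [Finite (St v)] {n : ℕ} {w : List ℕ} {bw bw' : ℕ → List ℕ} {ka : ℕ} {xL : List ℤ}
    (C : Chk M n w bw bw' ka xL)
    (hD : ∀ D : ℕ → ZMod 3, D 0 = 0 → (∀ i, i + 1 < n →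
      (w.map fun k => if i + 1 ≤ k then D (k - (i + 1)) else - D (i + 1 - k)).sum = D (n - 1 - i)) →
      ∀ k < n, D k = 0) (hcard : ¬ 3 ^ (n + 3) ∣ Nat.card (St v)) : NoCov 3 (St v) := by
  let x : leechLattice := ⟨vec xL, vec_mem_of_leechB C.xmem⟩
  have hx : (x : GolayPt → ℤ) = vec xL := rfl
  refine three_words (xs F hfix) (word_eq F hfix) (word_ne F hfix) (xs_inv F hfix (i := 1) (by norm_num))
    (xs_inv F hfix (i := 5) (by norm_num)) (wv_prod F hfix) C x ?_ ?_ hD hcard
  · intro i hi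
    apply Subtype.ext
    rw [← wv_prod F hfix, smul_word F hfix C.xlen hx, C.c16 i hi]
  · intro h0
    apply C.c17
    have h1 := congrArg (Subtype.val) h0
    rw [← wv_prod F hfix, smul_word F hfix C.xlen hx] at h1
    refine vec_injective ?_ C.xlen h1
    rw [foldZ_eq]
    have : wv (n - 1) ≠ [] := by
      unfold wv; simp
    obtain ⟨i, w', hw'⟩ := List.exists_cons_of_ne_nil this
    rw [hw']
    show (ap _ _).length = 24
    rw [length_ap (xrep F i).len]

/-- **Extraspecial Sylow subgroups of order `p ^ 3`**: letters `1 = x`, `2 = y`, `3 = t`. -/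
theorem extra_words {G : Type*} [Group G] [Finite G] (e : ℕ → G)
    (W : ∀ {w w' : List ℕ}, eqB (xM M) w w' = true → (w.map e).prod = (w'.map e).prod)
    (N : ∀ {w w' : List ℕ}, neB' (xM M) w w' = true → (w.map e).prod ≠ (w'.map e).prod)
    (e33 : e 33 = (e 1)⁻¹) (e34 : e 34 = (e 2)⁻¹) {p : ℕ} (hp : p.Prime) (hp2 : p ≠ 2)
    (c1 : eqB (xM M) (List.replicate p 1) [] = true) (c2 : eqB (xM M) (List.replicate p 2) [] = true)
    (c3 : eqB (xM M) [1, 2, 33, 34, 1] [1, 1, 2, 33, 34] = true)
    (c4 : eqB (xM M) [1, 2, 33, 34, 2] [2, 1, 2, 33, 34] = true)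
    (c5 : neB' (xM M) [1, 2] [2, 1] = true) (c6 : eqB (xM M) [3, 1] [33, 3] = true)
    (c7 : eqB (xM M) [3, 2] [34, 3] = true) (hcard : ¬ p ^ 4 ∣ Nat.card G) : NoCov p G := by
  have h1 : e 1 ^ p = 1 := by
    have := W c1
    rwa [List.map_replicate, List.prod_replicate] at this
  have h2 : e 2 ^ p = 1 := by
    have := W c2
    rwa [List.map_replicate, List.prod_replicate] at this
  have h3 : ⁅e 1, e 2⁆ * e 1 = e 1 * ⁅e 1, e 2⁆ := by
    have := W c3
    simp only [List.map_cons, List.map_nil, List.prod_cons, List.prod_nil, mul_one, e33, e34] at this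
    rw [commutatorElement_def]
    simpa only [mul_assoc] using this
  have h4 : ⁅e 1, e 2⁆ * e 2 = e 2 * ⁅e 1, e 2⁆ := by
    have := W c4
    simp only [List.map_cons, List.map_nil, List.prod_cons, List.prod_nil, mul_one, e33, e34] at this
    rw [commutatorElement_def]
    simpa only [mul_assoc] using this
  have h5 : ⁅e 1, e 2⁆ ≠ 1 := by
    have := N c5
    simp only [List.map_cons, List.map_nil, List.prod_cons, List.prod_nil, mul_one] at this
    rw [Ne, commutatorElement_eq_one_iff_mul_comm]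
    exact this
  refine Cfsg.Agent.H51.Crit.noCov_extra hp hp2 (x := e 1) (y := e 2) (t := e 3) h3 h4 h5 h1 ?_ (i := 0) (j := 0) ?_ ?_
  · exact not_dvd_index hp (pow_dvd_extra hp h1 h2 h3 h4 h5) hcard
  · have := W c6
    simp only [List.map_cons, List.map_nil, List.prod_cons, List.prod_nil, mul_one, e33] at this
    rw [this, zpow_zero, mul_one, mul_inv_cancel_right]
  · have := W c7
    simp only [List.map_cons, List.map_nil, List.prod_cons, List.prod_nil, mul_one, e34] at this
    rw [this, zpow_zero, mul_one, mul_inv_cancel_right]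

include F hfix in
/-- **Extraspecial Sylow subgroups of order `p ^ 3`**: letters `1 = x`, `2 = y`, `3 = t`. -/
theorem noCov_extra [Finite (St v)] {p : ℕ} (hp : p.Prime) (hp2 : p ≠ 2)
    (c1 : eqB (xM M) (List.replicate p 1) [] = true) (c2 : eqB (xM M) (List.replicate p 2) [] = true)
    (c3 : eqB (xM M) [1, 2, 33, 34, 1] [1, 1, 2, 33, 34] = true)
    (c4 : eqB (xM M) [1, 2, 33, 34, 2] [2, 1, 2, 33, 34] = true)
    (c5 : neB' (xM M) [1, 2] [2, 1] = true) (c6 : eqB (xM M) [3, 1] [33, 3] = true)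
    (c7 : eqB (xM M) [3, 2] [34, 3] = true) (hcard : ¬ p ^ 4 ∣ Nat.card (St v)) : NoCov p (St v) :=
  extra_words (xs F hfix) (word_eq F hfix) (word_ne F hfix) (xs_inv F hfix (i := 1) (by norm_num))
    (xs_inv F hfix (i := 2) (by norm_num)) hp hp2 c1 c2 c3 c4 c5 c6 c7 hcard

end Cfsg.Agent.H49.Stab
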