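import Mathlib
import Cfsg.Agent.S0402
import Cfsg.Agent.S0403
import Cfsg.Agent.H48.Crit
import Cfsg.Prelude.Def_Spor_Conway
set_option linter.all false

/-!
# `Spor.Co2` and `Spor.Co3` are simple; orders and perfectness (helper49)
-/

set_option autoImplicit false
set_option maxRecDepth 20000

namespace Cfsg.Agent.H49.CoStab

open Cfsg Cfsg.Agent.SporadicA

/-- the two versions of the stabiliser -/
noncomputable def equivSt (v : leechLattice) :
    MulAction.stabilizer Co0 v ≃* ↥(Co0 ⊓ MulAction.stabilizer (Equiv.Perm leechLattice) v) where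
  toFun h := ⟨h.1.1, h.1.2, h.2⟩
  invFun h := ⟨⟨h.1, h.2.1⟩, h.2.2⟩
  left_inv _ := rfl
  right_inv _ := rfl
  map_mul' _ _ := rfl

theorem norm_U : sqNorm (Spor.leechU : GolayPt → ℤ) = 32 := by
  show sqNorm Spor.vecU = 32
  decide +kernel

theorem norm_V : sqNorm (Spor.leechV : GolayPt → ℤ) = 48 := by
  show sqNorm Spor.vecV = 48
  decide +kernel

theorem card_co2 : Nat.card Spor.Co2 = 42305421312000 := by
  rw [← (S0402.result Spor.leechU norm_U).2]
  exact (Nat.card_congr (equivSt Spor.leechU).toEquiv).symm

theorem card_co3 : Nat.card Spor.Co3 = 495766656000 := by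
  rw [← (S0403.result Spor.leechV norm_V).2]
  exact (Nat.card_congr (equivSt Spor.leechV).toEquiv).symm

theorem simple_co2 : IsSimpleGroup Spor.Co2 := by
  have := (S0402.result Spor.leechU norm_U).1
  exact (equivSt Spor.leechU).symm.isSimpleGroup

theorem simple_co3 : IsSimpleGroup Spor.Co3 := by
  have := (S0403.result Spor.leechV norm_V).1
  exact (equivSt Spor.leechV).symm.isSimpleGroup

theorem finite_co2 : Finite Spor.Co2 := Nat.finite_of_card_ne_zero (by rw [card_co2]; norm_num)

theorem finite_co3 : Finite Spor.Co3 := Nat.finite_of_card_ne_zero (by rw [card_co3]; norm_num)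

theorem perfect_co2 : commutator Spor.Co2 = ⊤ := by
  have := simple_co2
  exact Cfsg.Agent.H48.Crit.perfect_of_simple (by rw [card_co2]; norm_num)

theorem perfect_co3 : commutator Spor.Co3 = ⊤ := by
  have := simple_co3
  exact Cfsg.Agent.H48.Crit.perfect_of_simple (by rw [card_co3]; norm_num)

end Cfsg.Agent.H49.CoStab
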